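import Groth.Prelude.Def_ArtFun2

/-!
# helper18: algebra maps to the dual numbers from linear forms

For a `k`-algebra `R` with a `k`-algebra map `x : R → k`, a `k`-linear form `L : R → k` with `L 1 = 0` that kills
`(ker x)^2` satisfies the Leibniz rule at `x`, so `r ↦ x r + (L r) ε` is a `k`-algebra map `R → k[ε]`.
-/

set_option autoImplicit false

universe u

namespace Groth.Agent.H18

variable {k : Type u} [Field k] {R : Type u} [CommRing R] [Algebra k R]

theorem leibniz_of_vanish (x : R →ₐ[k] k) (L : R →ₗ[k] k) (h1 : L 1 = 0)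
    (h2 : ∀ f ∈ (RingHom.ker x) ^ 2, L f = 0) (f g : R) :
    L (f * g) = x f * L g + x g * L f := by
  set f' := f - algebraMap k R (x f) with hf'
  set g' := g - algebraMap k R (x g) with hg'
  have hxf : f' ∈ RingHom.ker x := by
    rw [RingHom.mem_ker, hf', map_sub, AlgHom.commutes]; simp
  have hxg : g' ∈ RingHom.ker x := by
    rw [RingHom.mem_ker, hg', map_sub, AlgHom.commutes]; simp
  have hfg : f' * g' ∈ (RingHom.ker x) ^ 2 := by
    rw [pow_two]; exact Ideal.mul_mem_mul hxf hxg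
  have hα : ∀ c : k, L (algebraMap k R c) = 0 := by
    intro c
    rw [Algebra.algebraMap_eq_smul_one, map_smul, h1, smul_zero]
  have hαm : ∀ (c : k) (r : R), L (algebraMap k R c * r) = c * L r := by
    intro c r
    rw [← Algebra.smul_def, map_smul, smul_eq_mul]
  have key : f * g = f' * g' + algebraMap k R (x f) * g' + algebraMap k R (x g) * f'
      + algebraMap k R (x f * x g) := by
    simp only [hf', hg', map_mul]; ring
  have hαf : L f = L f' := by
    rw [hf', map_sub, hα, sub_zero]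
  have hαg : L g = L g' := by
    rw [hg', map_sub, hα, sub_zero]
  rw [key, map_add, map_add, map_add, h2 _ hfg, hα, hαm, hαm, hαf, hαg]
  ring

/-- The `k`-algebra map `R → k[ε]`, `r ↦ x r + (L r) ε`. -/
noncomputable def toDualOfLinear (x : R →ₐ[k] k) (L : R →ₗ[k] k) (h1 : L 1 = 0)
    (h2 : ∀ f ∈ (RingHom.ker x) ^ 2, L f = 0) : R →ₐ[k] DualNumber k where
  toFun r := TrivSqZeroExt.inl (x r) + TrivSqZeroExt.inr (L r)
  map_one' := by
    apply TrivSqZeroExt.ext <;> simp [h1]
  map_mul' a b := by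
    apply TrivSqZeroExt.ext
    · simp
    · simp [leibniz_of_vanish x L h1 h2]
      ring
  map_zero' := by
    apply TrivSqZeroExt.ext <;> simp
  map_add' a b := by
    apply TrivSqZeroExt.ext <;> simp
  commutes' c := by
    apply TrivSqZeroExt.ext
    · simp [TrivSqZeroExt.algebraMap_eq_inl]
    · simp [Algebra.algebraMap_eq_smul_one, h1]

@[simp] theorem toDualOfLinear_fst (x : R →ₐ[k] k) (L : R →ₗ[k] k) (h1 : L 1 = 0)
    (h2 : ∀ f ∈ (RingHom.ker x) ^ 2, L f = 0) (r : R) :
    (toDualOfLinear x L h1 h2 r).fst = x r := by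
  simp [toDualOfLinear]

@[simp] theorem toDualOfLinear_snd (x : R →ₐ[k] k) (L : R →ₗ[k] k) (h1 : L 1 = 0)
    (h2 : ∀ f ∈ (RingHom.ker x) ^ 2, L f = 0) (r : R) :
    (toDualOfLinear x L h1 h2 r).snd = L r := by
  simp [toDualOfLinear]

/-- The same map, as a map into the object `k[ε]` of `ArtFun.Art k k`. -/
noncomputable def toArtDual (x : R →ₐ[k] k) (L : R →ₗ[k] k) (h1 : L 1 = 0)
    (h2 : ∀ f ∈ (RingHom.ker x) ^ 2, L f = 0) : R →ₐ[k] (ArtFun.Art.dual k k) :=
  toDualOfLinear x L h1 h2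

theorem toArtDual_res (x : R →ₐ[k] k) (L : R →ₗ[k] k) (h1 : L 1 = 0)
    (h2 : ∀ f ∈ (RingHom.ker x) ^ 2, L f = 0) :
    (ArtFun.Art.dual k k).res.comp (toArtDual x L h1 h2) = x := by
  ext r
  exact toDualOfLinear_fst x L h1 h2 r

end Groth.Agent.H18
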