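import Groth.Prelude.Def_ArtFun2

/-!
# helper18: lifting algebra maps into pinned fibre products of `ArtFun.Art`

Given a pinned fibre-product square `h : IsFibreProd p' p'' f' f''` and two compatible `Λ`-algebra maps
`φ' : R → A'`, `φ'' : R → A''`, we build the induced `Λ`-algebra map `R → B`.  As a consequence, a family
that is versal and objectwise surjective has a surjective comparison map on squares with `A'' → A` surjective.
-/

set_option autoImplicit false

universe u v

open CategoryTheory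

namespace Groth.Agent.H18

open ArtFun ArtFun.Art

variable {Λ : Type u} {k : Type u} [CommRing Λ] [Field k] [Algebra Λ k]

section FibLift

variable {B A A' A'' : Art Λ k} {p' : B ⟶ A'} {p'' : B ⟶ A''} {f' : A' ⟶ A} {f'' : A'' ⟶ A}
  (h : IsFibreProd p' p'' f' f'') {R : Type u} [CommRing R] [Algebra Λ R]
  (φ' : R →ₐ[Λ] A') (φ'' : R →ₐ[Λ] A'') (hc : ∀ r, f'.toAlgHom (φ' r) = f''.toAlgHom (φ'' r))

include h in
theorem fibExt {b₁ b₂ : B} (h1 : p'.toAlgHom b₁ = p'.toAlgHom b₂)
    (h2 : p''.toAlgHom b₁ = p''.toAlgHom b₂) : b₁ = b₂ :=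
  h.inj b₁ b₂ h1 h2

include h hc in
theorem fibPt_exists (r : R) : ∃ b : B, p'.toAlgHom b = φ' r ∧ p''.toAlgHom b = φ'' r :=
  h.surj (φ' r) (φ'' r) (hc r)

/-- The point of `B` over `(φ' r, φ'' r)`. -/
noncomputable def fibPt (r : R) : B := Classical.choose (fibPt_exists h φ' φ'' hc r)

theorem fibPt_fst (r : R) : p'.toAlgHom (fibPt h φ' φ'' hc r) = φ' r :=
  (Classical.choose_spec (fibPt_exists h φ' φ'' hc r)).1

theorem fibPt_snd (r : R) : p''.toAlgHom (fibPt h φ' φ'' hc r) = φ'' r :=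
  (Classical.choose_spec (fibPt_exists h φ' φ'' hc r)).2

/-- The induced algebra map `R → B`. -/
noncomputable def fibLift : R →ₐ[Λ] B where
  toFun := fibPt h φ' φ'' hc
  map_one' := fibExt h (by rw [fibPt_fst, map_one, map_one]) (by rw [fibPt_snd, map_one, map_one])
  map_mul' x y := fibExt h (by rw [fibPt_fst, map_mul, map_mul, fibPt_fst, fibPt_fst])
    (by rw [fibPt_snd, map_mul, map_mul, fibPt_snd, fibPt_snd])
  map_zero' := fibExt h (by rw [fibPt_fst, map_zero, map_zero]) (by rw [fibPt_snd, map_zero, map_zero])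
  map_add' x y := fibExt h (by rw [fibPt_fst, map_add, map_add, fibPt_fst, fibPt_fst])
    (by rw [fibPt_snd, map_add, map_add, fibPt_snd, fibPt_snd])
  commutes' c := fibExt h (by rw [fibPt_fst, AlgHom.commutes, AlgHom.commutes])
    (by rw [fibPt_snd, AlgHom.commutes, AlgHom.commutes])

theorem fibLift_fst (r : R) : p'.toAlgHom (fibLift h φ' φ'' hc r) = φ' r := fibPt_fst h φ' φ'' hc r

theorem fibLift_snd (r : R) : p''.toAlgHom (fibLift h φ' φ'' hc r) = φ'' r := fibPt_snd h φ' φ'' hc r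

theorem p'_comp_fibLift : p'.toAlgHom.comp (fibLift h φ' φ'' hc) = φ' :=
  AlgHom.ext (fibLift_fst h φ' φ'' hc)

theorem p''_comp_fibLift : p''.toAlgHom.comp (fibLift h φ' φ'' hc) = φ'' :=
  AlgHom.ext (fibLift_snd h φ' φ'' hc)

end FibLift

section Versal

variable {R : Type u} [CommRing R] [Algebra Λ R] {resR : R →ₐ[Λ] k} {F : Art Λ k ⥤ Type v}

/-- A versal, objectwise surjective family gives surjective comparison maps on squares whose second leg
`A'' → A` is surjective. -/
theorem cmp_surjective_of_isVersal (ξ : Family R resR F) (hξ : IsVersal ξ)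
    (hsurj : ∀ A : Art Λ k, Function.Surjective (ξ.app A))
    {B A A' A'' : Art Λ k} {p' : B ⟶ A'} {p'' : B ⟶ A''} {f' : A' ⟶ A} {f'' : A'' ⟶ A}
    (h : IsFibreProd p' p'' f' f'') (hf'' : Function.Surjective f'') :
    Function.Surjective (cmp F h) := by
  rintro ⟨⟨x', x''⟩, hx⟩
  obtain ⟨φ', rfl⟩ := hsurj A' x'
  obtain ⟨ψ, hψ1, hψ2⟩ := hξ f'' hf'' (HomSet.map f' φ') x'' (by rw [ξ.natural]; exact hx.symm)
  have hc : ∀ r, f'.toAlgHom (φ'.1 r) = f''.toAlgHom (ψ.1 r) := by
    intro r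
    have := congrArg (fun t : HomSet R resR A => t.1 r) hψ1
    exact this.symm
  have hres : B.res.comp (fibLift h φ'.1 ψ.1 hc) = resR := by
    rw [← p'.res_comp, AlgHom.comp_assoc, p'_comp_fibLift]
    exact φ'.2
  let χ : HomSet R resR B := ⟨fibLift h φ'.1 ψ.1 hc, hres⟩
  have hχ1 : HomSet.map p' χ = φ' := Subtype.ext (p'_comp_fibLift h φ'.1 ψ.1 hc)
  have hχ2 : HomSet.map p'' χ = ψ := Subtype.ext (p''_comp_fibLift h φ'.1 ψ.1 hc)
  refine ⟨ξ.app B χ, ?_⟩
  apply FibProd.ext
  · exact (ξ.natural p' χ).symm.trans (congrArg (ξ.app A') hχ1)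
  · exact ((ξ.natural p'' χ).symm.trans (congrArg (ξ.app A'') hχ2)).trans hψ2

end Versal

end Groth.Agent.H18
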