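import Groth.Prelude.Def_ArtFun5
import Mathlib.RingTheory.Artinian.Ring

/-!
# helper18: every point of `h_R` factors through a truncation `R / m^(n+1)`

For a complete local Noetherian augmented `Λ`-algebra `R` (an `ArtFun.CRing`) and `φ ∈ h_R(A)`, the maximal
ideal of the Artinian local ring `A` is nilpotent, so `φ` kills some `m_R^(n+1)` and factors through
`R.trunc n`.  We record the factorization and its compatibilities.
-/

set_option autoImplicit false

universe u v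

open CategoryTheory

namespace Groth.Agent.H18

open ArtFun ArtFun.Art

variable {Λ : Type u} {k : Type u} [CommRing Λ] [Field k] [Algebra Λ k]

theorem art_maximalIdeal_pow_eq_bot (A : Art Λ k) :
    ∃ N : ℕ, IsLocalRing.maximalIdeal A ^ N = ⊥ := by
  obtain ⟨N, hN⟩ := IsArtinianRing.isNilpotent_jacobson_bot (R := A)
  rw [IsLocalRing.jacobson_eq_maximalIdeal ⊥ bot_ne_top] at hN
  exact ⟨N, by rw [hN, Ideal.zero_eq_bot]⟩

theorem homSet_map_maximalIdeal_le (R : CRing Λ k) {A : Art Λ k} (φ : HomSet R.carrier R.res A) :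
    Ideal.map φ.1 (IsLocalRing.maximalIdeal R.carrier) ≤ IsLocalRing.maximalIdeal A := by
  rw [Ideal.map_le_iff_le_comap]
  intro r hr
  rw [Ideal.mem_comap, Art.mem_maximalIdeal_iff]
  have := congrArg (fun g => g r) φ.2
  simp only [AlgHom.comp_apply] at this
  rw [this]
  exact (R.mem_maximalIdeal_iff r).1 hr

theorem exists_kill (R : CRing Λ k) {A : Art Λ k} (φ : HomSet R.carrier R.res A) :
    ∃ n : ℕ, ∀ a ∈ R.mpow n, φ.1 a = 0 := by
  obtain ⟨N, hN⟩ := art_maximalIdeal_pow_eq_bot A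
  refine ⟨N, fun a ha => ?_⟩
  have hmem : φ.1 a ∈ Ideal.map φ.1 (R.mpow N) := Ideal.mem_map_of_mem _ ha
  have hle : Ideal.map φ.1 (R.mpow N) ≤ IsLocalRing.maximalIdeal A ^ N := by
    rw [CRing.mpow, Ideal.map_pow]
    exact (Ideal.pow_right_mono (homSet_map_maximalIdeal_le R φ) _).trans
      (Ideal.pow_le_pow_right (Nat.le_succ N))
  have := hle hmem
  rw [hN, Ideal.mem_bot] at this
  exact this

theorem kill_succ (R : CRing Λ k) {A : Art Λ k} (φ : HomSet R.carrier R.res A) {n : ℕ}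
    (h : ∀ a ∈ R.mpow n, φ.1 a = 0) : ∀ a ∈ R.mpow (n + 1), φ.1 a = 0 :=
  fun a ha => h a (Ideal.pow_le_pow_right (Nat.le_succ _) ha)

theorem kill_mono (R : CRing Λ k) {A : Art Λ k} (φ : HomSet R.carrier R.res A) {n n' : ℕ}
    (hnn' : n ≤ n') (h : ∀ a ∈ R.mpow n, φ.1 a = 0) : ∀ a ∈ R.mpow n', φ.1 a = 0 :=
  fun a ha => h a (Ideal.pow_le_pow_right (Nat.succ_le_succ hnn') ha)

/-- The factorization `R.trunc n ⟶ A` of a point of `h_R(A)` killing `m^(n+1)`. -/
noncomputable def truncLift (R : CRing Λ k) {A : Art Λ k} (φ : HomSet R.carrier R.res A) (n : ℕ)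
    (h : ∀ a ∈ R.mpow n, φ.1 a = 0) : R.trunc n ⟶ A :=
  ⟨Ideal.Quotient.liftₐ (R.mpow n) φ.1 h, by
    apply Ideal.Quotient.algHom_ext
    apply AlgHom.ext
    intro a
    have := congrArg (fun g => g a) φ.2
    exact this⟩

theorem truncLift_apply_mk (R : CRing Λ k) {A : Art Λ k} (φ : HomSet R.carrier R.res A) (n : ℕ)
    (h : ∀ a ∈ R.mpow n, φ.1 a = 0) (a : R.carrier) :
    (truncLift R φ n h).toAlgHom (Ideal.Quotient.mk (R.mpow n) a) = φ.1 a := rfl

theorem truncLift_truncHom (R : CRing Λ k) {A : Art Λ k} (φ : HomSet R.carrier R.res A) (n : ℕ)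
    (h : ∀ a ∈ R.mpow n, φ.1 a = 0) : HomSet.map (truncLift R φ n h) (R.truncHom n) = φ :=
  Subtype.ext (AlgHom.ext fun _ => rfl)

theorem truncMap_comp_truncLift (R : CRing Λ k) {A : Art Λ k} (φ : HomSet R.carrier R.res A) (n : ℕ)
    (h : ∀ a ∈ R.mpow n, φ.1 a = 0) :
    R.truncMap n ≫ truncLift R φ n h = truncLift R φ (n + 1) (kill_succ R φ h) := by
  apply Art.hom_ext
  apply Ideal.Quotient.algHom_ext
  apply AlgHom.ext
  intro a
  rfl

theorem truncLift_comp (R : CRing Λ k) {A B : Art Λ k} (φ : HomSet R.carrier R.res A) (f : A ⟶ B)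
    (n : ℕ) (h : ∀ a ∈ R.mpow n, φ.1 a = 0) (h' : ∀ a ∈ R.mpow n, (HomSet.map f φ).1 a = 0) :
    truncLift R (HomSet.map f φ) n h' = truncLift R φ n h ≫ f := by
  apply Art.hom_ext
  apply Ideal.Quotient.algHom_ext
  apply AlgHom.ext
  intro a
  rfl

theorem truncLift_self (R : CRing Λ k) (n : ℕ) (h : ∀ a ∈ R.mpow n, (R.truncHom n).1 a = 0) :
    truncLift R (R.truncHom n) n h = 𝟙 (R.trunc n) := by
  apply Art.hom_ext
  apply Ideal.Quotient.algHom_ext
  apply AlgHom.ext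
  intro a
  rfl

theorem kill_map (R : CRing Λ k) {A B : Art Λ k} (φ : HomSet R.carrier R.res A) (f : A ⟶ B)
    {n : ℕ} (h : ∀ a ∈ R.mpow n, φ.1 a = 0) : ∀ a ∈ R.mpow n, (HomSet.map f φ).1 a = 0 := by
  intro a ha
  change f.toAlgHom (φ.1 a) = 0
  rw [h a ha, map_zero]

theorem truncHom_kill (R : CRing Λ k) (n : ℕ) : ∀ a ∈ R.mpow n, (R.truncHom n).1 a = 0 :=
  fun a ha => Ideal.Quotient.eq_zero_iff_mem.2 ha

end Groth.Agent.H18
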