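import Groth.Prelude.Def_CotT2

/-!
# helper18: basic facts on the cotangent complex of a presentation (`CotT`)

* `toCot` is surjective;
* every element of `L₁ = B ⊗_R F` is `1 ⊗ f`;
* the kernel of `toCot : L₁ → I/I²` is the image of `B ⊗_R Q` (`Q` the relation module).
-/

set_option autoImplicit false

universe u v w t m

open TensorProduct

namespace Groth.Agent.H18

variable {A : Type u} {B : Type v} [CommRing A] [CommRing B] [Algebra A B] {ι : Type w} {σ : Type t}
  (P : Algebra.Presentation A B ι σ)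

theorem cotT_toCot_surjective : Function.Surjective (CotT.toCot P) := by
  intro c
  obtain ⟨x, rfl⟩ := Algebra.Extension.Cotangent.mk_surjective c
  have hx : (x : P.toExtension.Ring) ∈ LinearMap.range (CotT.jmap P) := by
    rw [CotT.range_jmap]; exact x.2
  obtain ⟨f, hf⟩ := hx
  refine ⟨(1 : B) ⊗ₜ f, ?_⟩
  rw [CotT.toCot_tmul, one_smul]
  congr 1
  exact Subtype.ext hf

theorem cotT_L1_eq_one_tmul (x : CotT.L1 P) : ∃ f : CotT.relMod P, x = (1 : B) ⊗ₜ f := by
  induction x using TensorProduct.induction_on with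
  | zero => exact ⟨0, by simp⟩
  | tmul b f =>
    obtain ⟨r, rfl⟩ := P.toExtension.algebraMap_surjective b
    refine ⟨r • f, ?_⟩
    rw [TensorProduct.tmul_smul, TensorProduct.smul_tmul', Algebra.smul_def, mul_one]
  | add x y hx hy =>
    obtain ⟨f, rfl⟩ := hx
    obtain ⟨g, rfl⟩ := hy
    exact ⟨f + g, by rw [TensorProduct.tmul_add]⟩

theorem cotT_ker_toCot_le :
    LinearMap.ker (CotT.toCot P) ≤ LinearMap.range ((CotT.relKer P).subtype.baseChange B) := by
  intro x hx
  obtain ⟨f, rfl⟩ := cotT_L1_eq_one_tmul P x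
  rw [LinearMap.mem_ker, CotT.toCot_tmul, one_smul, Algebra.Extension.Cotangent.mk_eq_zero_iff,
    CotT.jker_apply] at hx
  -- `j f ∈ I^2`: write it as `j g` with `1 ⊗ g = 0`
  have key : ∀ y ∈ P.toExtension.ker ^ 2, ∃ g : CotT.relMod P,
      CotT.jmap P g = y ∧ (1 : B) ⊗ₜ[P.toExtension.Ring] g = (0 : CotT.L1 P) := by
    intro y hy
    rw [pow_two] at hy
    refine Submodule.mul_induction_on hy ?_ ?_
    · intro a ha c hc
      have hc' : c ∈ LinearMap.range (CotT.jmap P) := by rw [CotT.range_jmap]; exact hc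
      obtain ⟨g₀, rfl⟩ := hc'
      refine ⟨a • g₀, by rw [map_smul, smul_eq_mul], ?_⟩
      rw [TensorProduct.tmul_smul, TensorProduct.smul_tmul', Algebra.smul_def, mul_one]
      have : algebraMap P.toExtension.Ring B a = 0 := ha
      rw [this, TensorProduct.zero_tmul]
    · rintro y₁ y₂ ⟨g₁, h₁, h₁'⟩ ⟨g₂, h₂, h₂'⟩
      exact ⟨g₁ + g₂, by rw [map_add, h₁, h₂], by rw [TensorProduct.tmul_add, h₁', h₂', add_zero]⟩
  obtain ⟨g, hg, hg'⟩ := key _ hx
  have hq : f - g ∈ CotT.relKer P := by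
    change CotT.jmap P (f - g) = 0
    rw [map_sub, hg, sub_self]
  refine ⟨(1 : B) ⊗ₜ ⟨f - g, hq⟩, ?_⟩
  rw [LinearMap.baseChange_tmul, Submodule.subtype_apply, TensorProduct.tmul_sub, hg', sub_zero]

end Groth.Agent.H18
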